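import Mathlib
import Groth.Agent.RegLocus.Smooth
import Groth.Agent.RegLoc.Order

/-!
Smoothness at the closed point along a map to a discrete valuation ring, from freeness of the
pulled back differentials.
-/

set_option autoImplicit false
set_option linter.style.haveILetI false
set_option linter.unusedSimpArgs false

universe u

namespace Groth.Agent.DvrSmooth

open MvPolynomial TensorProduct

theorem aeval_add_sub_mem {R E : Type*} [CommRing R] [CommRing E] [Algebra R E] {σ : Type*} [Fintype σ]
    (K : Ideal E) (hK : K ^ 2 = ⊥) (x e : σ → E) (he : ∀ i, e i ∈ K) (p : MvPolynomial σ R) :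
    aeval (fun i => x i + e i) p = aeval x p + ∑ i, aeval x (pderiv i p) * e i := by
  classical
  induction p using MvPolynomial.induction_on with
  | C r => simp
  | add p q hp hq => simp only [map_add, hp, hq, add_mul, Finset.sum_add_distrib]; ring
  | mul_X p k hp =>
    have hz : (∑ i, aeval x (pderiv i p) * e i) * e k = 0 := by
      rw [← Ideal.mem_bot, ← hK, sq]
      exact Ideal.mul_mem_mul (sum_mem fun i _ => Ideal.mul_mem_left _ _ (he i)) (he k)
    have hk : ∑ i, aeval x p * aeval x (pderiv i (X k : MvPolynomial σ R)) * e i = aeval x p * e k := by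
      rw [Finset.sum_eq_single k]
      · rw [pderiv_X_self, map_one, mul_one]
      · intro i _ hi; rw [pderiv_X_of_ne hi.symm, map_zero, mul_zero, zero_mul]
      · simp
    have hs : ∑ i, aeval x (pderiv i p) * x k * e i = (∑ i, aeval x (pderiv i p) * e i) * x k := by
      rw [Finset.sum_mul]; exact Finset.sum_congr rfl fun i _ => by ring
    simp only [map_mul, aeval_X, hp, pderiv_mul, map_add, add_mul, Finset.sum_add_distrib, hk, hs]
    linear_combination hz

theorem exists_rows_cols {Λ : Type u} [CommRing Λ] [IsLocalRing Λ] {n m : ℕ} (J : Fin m → Fin n → Λ)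
    (hproj : Module.Projective Λ ((Fin n → Λ) ⧸ Submodule.span Λ (Set.range J))) :
    ∃ (c : ℕ) (rows : Fin c → Fin m) (cols : Fin c ↪ Fin n),
      IsUnit (Matrix.of fun i k => J (rows i) (cols k)).det ∧
      ∀ l, J l ∈ Submodule.span Λ (Set.range fun i => J (rows i)) := by
  classical
  let k := IsLocalRing.ResidueField Λ
  let res : Λ →+* k := IsLocalRing.residue Λ
  let Jk : Fin m → Fin n → k := fun l j => res (J l j)
  obtain ⟨v, hv, hspan, hli⟩ := Submodule.exists_fun_fin_finrank_span_eq k (Set.range Jk)
  choose rows hrows using hv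
  let c := Module.finrank k (Submodule.span k (Set.range Jk))
  let G : Matrix (Fin c) (Fin n) k := Matrix.of fun i j => v i j
  have hcol : Submodule.span k (Set.range G.col) = ⊤ := by
    refine Submodule.eq_top_of_finrank_eq ?_
    rw [← Matrix.rank_eq_finrank_span_cols, Module.finrank_fin_fun]
    exact (LinearIndependent.rank_matrix (show LinearIndependent k G.row from hli)).trans (Fintype.card_fin c)
  obtain ⟨w, hw, hwspan, hwli⟩ := Submodule.exists_fun_fin_finrank_span_eq k (Set.range G.col)
  have hd : Module.finrank k (Submodule.span k (Set.range G.col)) = c := by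
    rw [hcol, finrank_top, Module.finrank_fin_fun]
  choose cols hcols using hw
  have hcinj : Function.Injective cols := fun a b h => hwli.injective (by rw [← hcols a, ← hcols b, h])
  let cl : Fin c ↪ Fin n := ⟨fun i => cols (Fin.cast hd.symm i), hcinj.comp (Fin.cast_injective _)⟩
  refine ⟨c, rows, cl, ?_, ?_⟩
  · rw [← isUnit_map_iff res, RingHom.map_det]
    refine (Matrix.isUnit_iff_isUnit_det _).mp (Matrix.linearIndependent_cols_iff_isUnit.mp ?_)
    have e : (res.mapMatrix (Matrix.of fun i k => J (rows i) (cl k))).col = fun k => w (Fin.cast hd.symm k) := by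
      funext k i
      change res (J (rows i) (cols (Fin.cast hd.symm k))) = _
      rw [← hcols]
      exact congrFun (hrows i) _
    rw [e]
    exact hwli.comp _ (Fin.cast_injective _)
  · let M : Submodule Λ (Fin n → Λ) := Submodule.span Λ (Set.range J)
    let N : Submodule Λ (Fin n → Λ) := Submodule.span Λ (Set.range fun i => J (rows i))
    obtain ⟨s, hs⟩ := Module.projective_lifting_property M.mkQ LinearMap.id M.mkQ_surjective
    let ρ : (Fin n → Λ) →ₗ[Λ] (Fin n → Λ) := LinearMap.id - s.comp M.mkQ
    have hρM : ∀ x, ρ x ∈ M := fun x => by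
      rw [← Submodule.Quotient.mk_eq_zero M]
      change M.mkQ (x - s (M.mkQ x)) = 0
      rw [map_sub, ← LinearMap.comp_apply, hs, LinearMap.id_apply, sub_self]
    have hρid : ∀ x ∈ M, ρ x = x := fun x hx => by
      change x - s (M.mkQ x) = x
      rw [show M.mkQ x = 0 from (Submodule.Quotient.mk_eq_zero M).mpr hx, map_zero, sub_zero]
    suffices hle : M ≤ N from fun l => hle (Submodule.subset_span ⟨l, rfl⟩)
    refine Submodule.le_of_le_smul_of_le_jacobson_bot (I := IsLocalRing.maximalIdeal Λ)
      (Submodule.fg_span (Set.finite_range J)) (IsLocalRing.maximalIdeal_le_jacobson _) ?_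
    refine Submodule.span_le.mpr ?_
    rintro _ ⟨l, rfl⟩
    have hmem : Jk l ∈ Submodule.span k (Set.range v) := by
      rw [hspan]; exact Submodule.subset_span ⟨l, rfl⟩
    obtain ⟨a, ha⟩ := (Submodule.mem_span_range_iff_exists_fun k).mp hmem
    choose b hb using fun i => IsLocalRing.residue_surjective (a i)
    let y := J l - ∑ i, b i • J (rows i)
    have hy : ∀ j, y j ∈ IsLocalRing.maximalIdeal Λ := fun j => by
      rw [← IsLocalRing.residue_eq_zero_iff]
      simp only [y, Pi.sub_apply, Finset.sum_apply, Pi.smul_apply, smul_eq_mul, map_sub, map_sum, map_mul, hb]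
      rw [sub_eq_zero]
      have := congrFun ha j
      simp only [Finset.sum_apply, Pi.smul_apply, smul_eq_mul, ← hrows] at this
      exact this.symm
    have hbN : ∑ i, b i • J (rows i) ∈ N := sum_mem fun i _ => N.smul_mem _ (Submodule.subset_span ⟨i, rfl⟩)
    have hNM : N ≤ M := Submodule.span_mono (by rintro _ ⟨i, rfl⟩; exact ⟨rows i, rfl⟩)
    have hyM : y ∈ M := sub_mem (Submodule.subset_span ⟨l, rfl⟩) (hNM hbN)
    have hyI : y ∈ IsLocalRing.maximalIdeal Λ • M := by
      rw [← hρid y hyM, pi_eq_sum_univ y, map_sum]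
      refine sum_mem fun j _ => ?_
      rw [map_smul]
      exact Submodule.smul_mem_smul (hy j) (hρM _)
    rw [SetLike.mem_coe, ← sub_add_cancel (J l) (∑ i, b i • J (rows i))]
    exact add_mem (Submodule.mem_sup_right hyI) (Submodule.mem_sup_left hbN)

theorem isSmoothAt_of_free {R Λ A : Type u} [CommRing R] [IsDomain R] [IsDiscreteValuationRing R]
    [CommRing Λ] [IsDomain Λ] [IsLocalRing Λ] [Algebra R Λ] [CommRing A] [Algebra R A] [Algebra.FiniteType R A]
    [Algebra A Λ] [IsScalarTower R A Λ] [(RingHom.ker (algebraMap A Λ)).IsPrime]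
    (hq : Algebra.IsSmoothAt R (RingHom.ker (algebraMap A Λ)))
    (hfree : Module.Free Λ (Λ ⊗[A] Ω[A⁄R])) :
    Algebra.IsSmoothAt R ((IsLocalRing.maximalIdeal Λ).comap (algebraMap A Λ)) := by
  classical
  haveI : Algebra.FinitePresentation R A := Algebra.FinitePresentation.of_finiteType.mp inferInstance
  obtain ⟨n, hom, hhom, hkfg⟩ := (inferInstance : Algebra.FinitePresentation R A).out
  obtain ⟨m, f, hf⟩ := Submodule.fg_iff_exists_fin_generating_family.mp hkfg
  have hf0 : ∀ l, hom (f l) = 0 := fun l => by
    have : f l ∈ RingHom.ker hom.toRingHom := hf ▸ Submodule.subset_span ⟨l, rfl⟩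
    exact this
  let xl : Fin n → Λ := fun j => algebraMap A Λ (hom (X j))
  have hev : ∀ p, aeval xl p = algebraMap A Λ (hom p) := fun p => by
    refine AlgHom.congr_fun (φ₁ := aeval xl) (φ₂ := (IsScalarTower.toAlgHom R A Λ).comp hom)
      (MvPolynomial.algHom_ext fun i => by simp [xl]) p
  let J : Fin m → Fin n → Λ := fun l j => aeval xl (pderiv j (f l))
  let M : Submodule Λ (Fin n → Λ) := Submodule.span Λ (Set.range J)
  -- the cokernel of the Jacobian is the module of differentials
  have hproj : Module.Projective Λ ((Fin n → Λ) ⧸ M) := by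
    let Θ : (Fin n → Λ) →ₗ[Λ] Λ ⊗[A] Ω[A⁄R] :=
      Fintype.linearCombination Λ fun j => (1 : Λ) ⊗ₜ[A] KaehlerDifferential.D R A (hom (X j))
    have hΘd : ∀ p : MvPolynomial (Fin n) R,
        Θ (fun j => aeval xl (pderiv j p)) = (1 : Λ) ⊗ₜ[A] KaehlerDifferential.D R A (hom p) := by
      intro p
      induction p using MvPolynomial.induction_on with
      | C r =>
        rw [show hom (C r) = algebraMap R A r from hom.commutes r, Derivation.map_algebraMap, tmul_zero]
        simp [Θ, Fintype.linearCombination_apply]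
      | add p q hp hq =>
        rw [map_add, map_add, tmul_add, ← hp, ← hq, ← map_add]
        congr 1
        funext j
        simp
      | mul_X p i hp =>
        rw [map_mul, Derivation.leibniz, tmul_add, tmul_smul, tmul_smul, ← hp]
        have e : (fun j => aeval xl (pderiv j (p * X i))) =
            aeval xl p • (Pi.single i 1 : Fin n → Λ) + xl i • fun j => aeval xl (pderiv j p) := by
          funext j
          simp only [pderiv_mul, map_add, map_mul, aeval_X, Pi.add_apply, Pi.smul_apply, smul_eq_mul]
          rcases eq_or_ne j i with rfl | hji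
          · rw [pderiv_X_self, map_one, Pi.single_eq_same]; ring
          · rw [pderiv_X_of_ne hji.symm, map_zero, Pi.single_eq_of_ne hji]; ring
        rw [e, map_add, map_smul, map_smul]
        congr 1
        · rw [hev, algebraMap_smul]
          simp only [Θ, Fintype.linearCombination_apply_single, one_smul]
        · simp only [xl, algebraMap_smul]
    have hM : M ≤ LinearMap.ker Θ := by
      refine Submodule.span_le.mpr ?_
      rintro _ ⟨l, rfl⟩
      change Θ (fun j => aeval xl (pderiv j (f l))) = 0
      rw [hΘd, hf0, map_zero, tmul_zero]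
    let N := (Fin n → Λ) ⧸ M
    let δ : MvPolynomial (Fin n) R → N := fun p => M.mkQ fun j => aeval xl (pderiv j p)
    have hδ : ∀ p, hom p = 0 → δ p = 0 := by
      intro p hp
      obtain ⟨c, hc⟩ := (Submodule.mem_span_range_iff_exists_fun (MvPolynomial (Fin n) R)).mp
        ((SetLike.ext_iff.mp hf p).mpr hp)
      refine (Submodule.Quotient.mk_eq_zero M).mpr ?_
      have e : (fun j => aeval xl (pderiv j p)) = ∑ l, aeval xl (c l) • J l := by
        funext j
        simp only [← hc, map_sum, smul_eq_mul, pderiv_mul, map_add, map_mul, Finset.sum_apply, Pi.smul_apply, J]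
        refine Finset.sum_congr rfl fun l _ => ?_
        rw [show aeval xl (f l) = 0 by rw [hev, hf0, map_zero]]
        ring
      rw [e]
      exact sum_mem fun l _ => M.smul_mem _ (Submodule.subset_span ⟨l, rfl⟩)
    choose sec hsec using hhom
    have hδsec : ∀ p, δ (sec (hom p)) = δ p := fun p => by
      have h := hδ (sec (hom p) - p) (by rw [map_sub, hsec, sub_self])
      have e : δ (sec (hom p) - p) = δ (sec (hom p)) - δ p := by
        simp only [δ, ← map_sub]
        congr 1
        funext j
        simp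
      rwa [e, sub_eq_zero] at h
    have hδadd : ∀ p q, δ (p + q) = δ p + δ q := fun p q => by
      simp only [δ, ← map_add]
      congr 1
      funext j
      simp
    have hδmul : ∀ p q, δ (p * q) = aeval xl p • δ q + aeval xl q • δ p := fun p q => by
      simp only [δ, ← map_smul, ← map_add]
      congr 1
      funext j
      simp [pderiv_mul]
      try ring
    have hδC : ∀ r : R, δ (C r) = 0 := fun r => by
      simp only [δ, pderiv_C, map_zero]
      exact map_zero M.mkQ
    let d : Derivation R A N := Derivation.mk'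
      { toFun := fun a => δ (sec a)
        map_add' := fun a b => by
          rw [← hδadd, ← hδsec (sec a + sec b), map_add, hsec, hsec]
        map_smul' := fun r a => by
          rw [RingHom.id_apply, ← hδsec (sec (r • a))]
          have e : hom (C r * sec a) = r • a := by
            rw [map_mul, hsec, Algebra.smul_def]
            exact congrArg (· * a) (hom.commutes r)
          rw [hδsec, ← e, hδsec, hδmul, hδC, smul_zero, add_zero, aeval_C, algebraMap_smul] }
      (fun a b => by
        change δ (sec (a * b)) = a • δ (sec b) + b • δ (sec a)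
        rw [← algebraMap_smul Λ a, ← algebraMap_smul Λ b]
        rw [show a * b = hom (sec a * sec b) by rw [map_mul, hsec, hsec], hδsec, hδmul, hev, hev, hsec, hsec])
    let L : Λ ⊗[A] Ω[A⁄R] →ₗ[Λ] N := d.liftKaehlerDifferential.liftBaseChange Λ
    have hLΘ : L.comp Θ = M.mkQ := by
      refine LinearMap.pi_ext fun j x => ?_
      simp only [LinearMap.comp_apply, Θ, Fintype.linearCombination_apply_single, map_smul, L,
        LinearMap.liftBaseChange_tmul, one_smul, Derivation.liftKaehlerDifferential_comp_D]
      change x • δ (sec (hom (X j))) = M.mkQ (Pi.single j x)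
      rw [hδsec]
      simp only [δ, ← map_smul]
      congr 1
      funext i
      rcases eq_or_ne i j with rfl | hij
      · simp
      · rw [Pi.smul_apply, pderiv_X_of_ne hij.symm, map_zero, smul_zero, Pi.single_eq_of_ne hij]
    refine Module.Projective.of_split (M := Λ ⊗[A] Ω[A⁄R]) (M.liftQ Θ hM) L ?_
    refine Submodule.linearMap_qext _ ?_
    rw [LinearMap.comp_assoc, Submodule.liftQ_mkQ, hLΘ, LinearMap.id_comp]
  obtain ⟨c, rows, cols, hdet, hrows⟩ := exists_rows_cols J hproj
  choose co hco using fun l => (Submodule.mem_span_range_iff_exists_fun Λ).mp (hrows l)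
  -- the complete intersection through the leading relations
  let Mat : Matrix (Fin c) (Fin c) (MvPolynomial (Fin n) R) := Matrix.of fun i k => pderiv (cols k) (f (rows i))
  let Δ := Mat.det
  have hΔ : IsUnit (aeval xl Δ) := by
    change IsUnit ((aeval xl).toRingHom Mat.det)
    rw [RingHom.map_det]
    exact hdet
  obtain ⟨S, _, _, s, hs, hsk⟩ : ∃ (S : Type u) (_ : CommRing S) (_ : Algebra R S)
      (s : MvPolynomial (Fin n) R →ₐ[R] S), Function.Surjective s ∧
        RingHom.ker s.toRingHom = Ideal.span (Set.range (f ∘ rows)) :=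
    ⟨MvPolynomial (Fin n) R ⧸ Ideal.span (Set.range (f ∘ rows)), inferInstance, inferInstance,
      Ideal.Quotient.mkₐ R (Ideal.span (Set.range (f ∘ rows))),
      Ideal.Quotient.mkₐ_surjective R (Ideal.span (Set.range (f ∘ rows))),
      Ideal.Quotient.mkₐ_ker R (Ideal.span (Set.range (f ∘ rows)))⟩
  let π : S →ₐ[R] A := AlgHom.liftOfSurjective s hs hom (fun v hv => by
    refine RingHom.mem_ker.mpr (RingHom.mem_ker.mp
      ((Ideal.span_le (I := RingHom.ker hom)).mpr ?_ ((SetLike.ext_iff.mp hsk v).mp hv)))
    rintro _ ⟨i, rfl⟩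
    exact hf0 _)
  have hπs : ∀ p, π (s p) = hom p := fun p => AlgHom.liftOfSurjective_apply ..
  have hrow0 : ∀ i, s (f (rows i)) = 0 := fun i =>
    RingHom.mem_ker.mp ((SetLike.ext_iff.mp hsk _).mpr (Ideal.subset_span ⟨i, rfl⟩))
  let P : Ideal A := (IsLocalRing.maximalIdeal Λ).comap (algebraMap A Λ)
  let q : Ideal A := RingHom.ker (algebraMap A Λ)
  haveI : q.IsPrime := ‹_›
  let PS : Ideal S := P.comap π
  let qS : Ideal S := q.comap π
  have hΔP : s Δ ∉ PS := fun h => by
    change algebraMap A Λ (π (s Δ)) ∈ IsLocalRing.maximalIdeal Λ at h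
    rw [hπs, ← hev] at h
    exact h hΔ
  -- the kernel dies at the generic point
  haveI : IsNoetherianRing S := isNoetherianRing_of_surjective (MvPolynomial (Fin n) R) S s.toRingHom hs
  have hgen : ∀ l, algebraMap S (Localization.AtPrime qS) (s (f l)) = 0 := by
    let Sq := Localization.AtPrime qS
    let Aq := Localization.AtPrime q
    let πq : Sq →ₐ[R] Aq :=
      IsLocalization.liftAlgHom (M := qS.primeCompl) (f := (IsScalarTower.toAlgHom R A Aq).comp π)
        (fun y => IsLocalization.map_units Aq (⟨π y, y.2⟩ : q.primeCompl))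
    have hπq : ∀ x, πq (algebraMap S Sq x) = algebraMap A Aq (π x) := fun x => by
      simp only [πq, IsLocalization.liftAlgHom_apply, IsLocalization.lift_eq]
      rfl
    let g : Fin m → Sq := fun l => algebraMap S Sq (s (f l))
    let Jg : Ideal Sq := Ideal.span (Set.range g)
    suffices h : Jg = ⊥ from fun l => Ideal.mem_bot.mp (h ▸ Ideal.subset_span ⟨l, rfl⟩)
    refine Submodule.eq_bot_of_le_smul_of_le_jacobson_bot (IsLocalRing.maximalIdeal Sq) Jg
      (IsNoetherian.noetherian Jg) ?_ (IsLocalRing.maximalIdeal_le_jacobson _)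
    haveI : Algebra.FormallySmooth R Aq := hq
    let q2 : Sq →ₐ[R] Sq ⧸ Jg ^ 2 := Ideal.Quotient.mkₐ R _
    let K : Ideal (Sq ⧸ Jg ^ 2) := Jg.map q2
    have hK : K ^ 2 = ⊥ := by
      rw [← Ideal.map_pow]
      exact (Ideal.map_eq_bot_iff_le_ker _).mpr fun x hx => Ideal.Quotient.eq_zero_iff_mem.mpr hx
    have hSq0 : ∀ x, πq x = 0 → q2 x ∈ K := by
      intro x hx
      obtain ⟨⟨y, t⟩, hy⟩ := IsLocalization.surj qS.primeCompl x
      have h0 : algebraMap A Aq (π y) = 0 := by
        rw [← hπq, ← show x * algebraMap S Sq t = algebraMap S Sq y from hy, map_mul, hx, zero_mul]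
      obtain ⟨⟨w, hw⟩, hwy⟩ := (IsLocalization.map_eq_zero_iff q.primeCompl Aq _).mp h0
      obtain ⟨w', rfl⟩ := hhom w
      obtain ⟨y', rfl⟩ := hs y
      rw [hπs, ← map_mul] at hwy
      obtain ⟨cf, hcf⟩ := (Submodule.mem_span_range_iff_exists_fun (MvPolynomial (Fin n) R)).mp
        ((SetLike.ext_iff.mp hf _).mpr hwy)
      have hmem : algebraMap S Sq (s w') * (x * algebraMap S Sq t) ∈ Jg := by
        rw [show x * algebraMap S Sq t = algebraMap S Sq (s y') from hy, ← map_mul, ← map_mul, ← hcf, map_sum, map_sum]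
        refine sum_mem fun l _ => ?_
        rw [smul_eq_mul, map_mul, map_mul]
        exact Ideal.mul_mem_left _ _ (Ideal.subset_span ⟨l, rfl⟩)
      have hu : IsUnit (algebraMap S Sq (s w')) := IsLocalization.map_units Sq (⟨s w', fun h => hw (by
        change π (s w') ∈ q at h
        rwa [hπs] at h)⟩ : qS.primeCompl)
      rw [Ideal.unit_mul_mem_iff_mem _ hu, Ideal.mul_unit_mem_iff_mem _ (IsLocalization.map_units Sq t)] at hmem
      exact Ideal.mem_map_of_mem _ hmem
    have hπqs : Function.Surjective πq := by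
      intro z
      obtain ⟨⟨a, w⟩, hz⟩ := IsLocalization.surj q.primeCompl z
      obtain ⟨a', rfl⟩ := hhom a
      obtain ⟨w', hw'⟩ := hhom (w : A)
      obtain ⟨i, hi⟩ := (IsLocalization.map_units Sq (⟨s w', fun h => w.2 (by
        change π (s w') ∈ q at h
        rwa [hπs, hw'] at h)⟩ : qS.primeCompl)).exists_right_inv
      refine ⟨algebraMap S Sq (s a') * i, ?_⟩
      have h1 : algebraMap A Aq (w : A) * πq i = 1 := by
        rw [← hw', ← hπs, ← hπq, ← map_mul, hi, map_one]
      rw [map_mul, hπq, hπs, ← hz, mul_assoc, h1, mul_one]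
    have hker : Jg ^ 2 ≤ RingHom.ker πq := by
      refine (Ideal.pow_le_self two_ne_zero).trans (Ideal.span_le.mpr ?_)
      rintro _ ⟨l, rfl⟩
      change πq (algebraMap S Sq (s (f l))) = 0
      rw [hπq, hπs, hf0, map_zero]
    let p2 : (Sq ⧸ Jg ^ 2) →ₐ[R] Aq := Ideal.Quotient.liftₐ _ πq hker
    have hp2K : RingHom.ker p2.toRingHom ≤ K := by
      intro z hz
      obtain ⟨z, rfl⟩ := Ideal.Quotient.mk_surjective z
      exact hSq0 z hz
    have hp2 : Function.Surjective p2 := fun z => by
      obtain ⟨x, hx⟩ := hπqs z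
      exact ⟨Ideal.Quotient.mk _ x, hx⟩
    let σ : Aq →ₐ[R] Sq ⧸ Jg ^ 2 := Algebra.FormallySmooth.liftOfSurjective (AlgHom.id R Aq) p2 hp2
      ⟨2, le_bot_iff.mp (hK ▸ Ideal.pow_right_mono hp2K 2)⟩
    have hσ : ∀ z, p2 (σ z) = z := fun z => Algebra.FormallySmooth.liftOfSurjective_apply _ _ _ _ z
    let x2 : Fin n → Sq ⧸ Jg ^ 2 := fun j => q2 (algebraMap S Sq (s (X j)))
    let ev2 : MvPolynomial (Fin n) R →ₐ[R] Sq ⧸ Jg ^ 2 := q2.comp ((IsScalarTower.toAlgHom R S Sq).comp s)
    have hev2 : ∀ p, aeval x2 p = ev2 p := fun p =>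
      AlgHom.congr_fun (φ₁ := aeval x2) (φ₂ := ev2) (MvPolynomial.algHom_ext fun i => by simp [x2, ev2]) p
    let lv : MvPolynomial (Fin n) R →ₐ[R] Sq ⧸ Jg ^ 2 := σ.comp ((IsScalarTower.toAlgHom R A Aq).comp hom)
    let e : Fin n → Sq ⧸ Jg ^ 2 := fun j => lv (X j) - x2 j
    have he : ∀ j, e j ∈ K := fun j => hp2K (by
      change p2 (lv (X j) - q2 (algebraMap S Sq (s (X j)))) = 0
      rw [map_sub]
      change p2 (σ (algebraMap A Aq (hom (X j)))) - πq (algebraMap S Sq (s (X j))) = 0
      rw [hσ, hπq, hπs, sub_self])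
    have hrel : ∀ l, ev2 (f l) = -∑ j, ev2 (pderiv j (f l)) * e j := fun l => by
      have h := aeval_add_sub_mem K hK x2 e he (f l)
      have h0 : aeval (fun j => x2 j + e j) (f l) = lv (f l) :=
        AlgHom.congr_fun (φ₂ := lv) (MvPolynomial.algHom_ext fun i => by simp [e]) (f l)
      rw [h0, show lv (f l) = σ (algebraMap A Aq (hom (f l))) from rfl, hf0, map_zero, map_zero] at h
      simp only [hev2] at h
      linear_combination -h
    refine Ideal.span_le.mpr ?_
    rintro _ ⟨l, rfl⟩
    let β : Fin c → MvPolynomial (Fin n) R := Matrix.vecMul (fun k => pderiv (cols k) (f l)) Mat.adjugate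
    let E : Fin n → MvPolynomial (Fin n) R := fun j => Δ * pderiv j (f l) - ∑ i, β i * pderiv j (f (rows i))
    have hE : ∀ j, algebraMap S Sq (s (E j)) ∈ IsLocalRing.maximalIdeal Sq := by
      intro j
      rw [IsLocalization.AtPrime.to_map_mem_maximal_iff Sq qS]
      change algebraMap A Λ (π (s (E j))) = 0
      rw [hπs, ← hev]
      have hβ : ∀ i, aeval xl (β i) = aeval xl Δ * co l i := by
        intro i
        have h1 : (fun k => aeval xl (pderiv (cols k) (f l))) =
            Matrix.vecMul (co l) (Mat.map (aeval xl)) := by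
          funext k
          have := congrFun (hco l) (cols k)
          simp only [Finset.sum_apply, Pi.smul_apply, smul_eq_mul] at this
          simp only [Matrix.vecMul, dotProduct, Matrix.map_apply, Mat, Matrix.of_apply]
          exact this.symm
        have h2 : aeval xl (β i) = Matrix.vecMul (fun k => aeval xl (pderiv (cols k) (f l)))
            (Mat.adjugate.map (aeval xl)) i := RingHom.map_vecMul (aeval xl).toRingHom _ _ i
        have h3 : Mat.map (aeval xl) * Mat.adjugate.map (aeval xl) = aeval xl Δ • 1 := by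
          rw [← Matrix.map_mul, Matrix.mul_adjugate]
          refine Matrix.ext fun a b => ?_
          simp only [Matrix.map_apply, Matrix.smul_apply, Matrix.one_apply, smul_eq_mul, Δ]
          split <;> simp
        rw [h2, h1, Matrix.vecMul_vecMul, h3, Matrix.vecMul_smul, Matrix.vecMul_one, Pi.smul_apply, smul_eq_mul]
      simp only [E, map_sub, map_mul, map_sum, hβ]
      have hj := congrFun (hco l) j
      simp only [Finset.sum_apply, Pi.smul_apply, smul_eq_mul, J] at hj
      rw [← hj, Finset.mul_sum, ← Finset.sum_sub_distrib]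
      exact Finset.sum_eq_zero fun i _ => by ring
    have hrows2 : ∀ i, ev2 (f (rows i)) = 0 := fun i => by simp [ev2, hrow0]
    have hsum : ev2 Δ * q2 (g l) = -∑ j, ev2 (E j) * e j := by
      have hz : ∀ i, ∑ j, ev2 (β i) * (ev2 (pderiv j (f (rows i))) * e j) = 0 := fun i => by
        rw [← Finset.mul_sum, ← neg_eq_zero, ← mul_neg, ← hrel, hrows2, mul_zero]
      have h1 : ∑ j, ev2 (E j) * e j = ev2 Δ * ∑ j, ev2 (pderiv j (f l)) * e j := by
        simp only [E, map_sub, map_mul, map_sum, sub_mul, Finset.sum_sub_distrib, Finset.sum_mul, Finset.mul_sum, mul_assoc]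
        rw [sub_eq_self, Finset.sum_comm]
        exact Finset.sum_eq_zero fun i _ => hz i
      rw [h1, show q2 (g l) = ev2 (f l) from rfl, hrel, mul_neg]
    have hmK : ev2 Δ * q2 (g l) ∈ (IsLocalRing.maximalIdeal Sq • Jg).map q2 := by
      rw [hsum, Ideal.smul_eq_mul, Ideal.map_mul]
      exact neg_mem (sum_mem fun j _ => Ideal.mul_mem_mul (Ideal.mem_map_of_mem _ (hE j)) (he j))
    rw [show ev2 Δ * q2 (g l) = q2 (algebraMap S Sq (s Δ) * g l) from (map_mul q2 _ _).symm] at hmK
    obtain ⟨z, hz, hzx⟩ := (Ideal.mem_map_iff_of_surjective q2 Ideal.Quotient.mk_surjective).mp hmK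
    have hsub : Jg ^ 2 ≤ IsLocalRing.maximalIdeal Sq • Jg := by
      rw [sq, Ideal.smul_eq_mul]
      refine Ideal.mul_mono (IsLocalRing.le_maximalIdeal fun htop => ?_) le_rfl
      have h1 : (1 : Sq) ∈ RingHom.ker πq := by
        refine (Ideal.span_le.mpr ?_ : Jg ≤ RingHom.ker πq) (show (1 : Sq) ∈ Jg by rw [htop]; exact Submodule.mem_top)
        rintro _ ⟨l, rfl⟩
        change πq (algebraMap S Sq (s (f l))) = 0
        rw [hπq, hπs, hf0, map_zero]
      rw [RingHom.mem_ker, map_one] at h1
      exact one_ne_zero h1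
    have hmem : algebraMap S Sq (s Δ) * g l ∈ IsLocalRing.maximalIdeal Sq • Jg := by
      rw [← sub_add_cancel (algebraMap S Sq (s Δ) * g l) z]
      exact add_mem (hsub (Ideal.Quotient.eq.mp hzx.symm)) hz
    have hΔu : IsUnit (algebraMap S Sq (s Δ)) := IsLocalization.map_units Sq (⟨s Δ, fun h => hΔP (by
      change algebraMap A Λ (π (s Δ)) = 0 at h
      change algebraMap A Λ (π (s Δ)) ∈ IsLocalRing.maximalIdeal Λ
      rw [h]
      exact zero_mem _)⟩ : qS.primeCompl)
    exact (Ideal.unit_mul_mem_iff_mem _ hΔu).mp hmem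
  -- the local ring at the closed point is a domain
  let SD := Localization.Away (s Δ)
  let Sp := Localization.AtPrime PS
  haveI hSD : Algebra.Smooth R SD := by
    let B₁ := MvPolynomial (Fin n) R ⧸ Ideal.span (Set.range (f ∘ rows))
    let P1 : Algebra.PreSubmersivePresentation R B₁ (Fin n) (Fin c) :=
      { toPresentation := Algebra.Presentation.naive (v := f ∘ rows)
        map := cols
        map_inj := cols.injective }
    let eS : B₁ ≃ₐ[R] S := (Ideal.quotientEquivAlgOfEq R hsk.symm).trans (Ideal.quotientKerAlgEquivOfSurjective hs)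
    let u : B₁ := Ideal.Quotient.mkₐ R _ Δ
    let P2 := (Algebra.PreSubmersivePresentation.localizationAway (Localization.Away u) u).comp P1
    have hP1 : P1.jacobian = u := by
      have hM : P1.jacobiMatrix = Mat.transpose := by
        ext i j : 1
        rw [Algebra.PreSubmersivePresentation.jacobiMatrix_apply]
        rfl
      rw [Algebra.PreSubmersivePresentation.jacobian_eq_jacobiMatrix_det, hM, Matrix.det_transpose]
      rfl
    have hjac : IsUnit P2.jacobian := by
      simp only [P2, Algebra.PreSubmersivePresentation.comp_jacobian_eq_jacobian_smul_jacobian,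
        Algebra.PreSubmersivePresentation.localizationAway_jacobian, Algebra.smul_def, hP1]
      exact (IsLocalization.Away.algebraMap_isUnit u).mul (IsLocalization.Away.algebraMap_isUnit u)
    haveI : Algebra.IsStandardSmooth R (Localization.Away u) :=
      Algebra.SubmersivePresentation.isStandardSmooth ⟨P2, hjac⟩
    have heu : eS u = s Δ := rfl
    have h := IsLocalization.algEquivOfAlgEquiv (A := R) (Localization.Away u) SD eS
      (M := Submonoid.powers u) (T := Submonoid.powers (s Δ)) (by rw [Submonoid.map_powers, ← heu])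
    exact Algebra.Smooth.of_equiv h
  haveI : IsRegularRing R := inferInstance
  haveI : IsRegularRing SD := Groth.Agent.RegLocus.isRegularRing_of_smooth R SD
  haveI : IsRegularLocalRing Sp := Groth.Agent.RegLocus.mem_regLocus_away (s Δ) ⟨PS, inferInstance⟩ hΔP
  haveI : IsDomain Sp := Groth.Agent.RegLoc.isDomain Sp
  have hclosed : ∀ l, algebraMap S Sp (s (f l)) = 0 := fun l => by
    obtain ⟨⟨w, hw⟩, hwl⟩ := (IsLocalization.map_eq_zero_iff qS.primeCompl (Localization.AtPrime qS) _).mp (hgen l)
    have h2 := congrArg (algebraMap S Sp) hwl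
    rw [map_mul, map_zero] at h2
    refine (mul_eq_zero.mp h2).resolve_left fun h3 => ?_
    obtain ⟨⟨v, hv⟩, hvw⟩ := (IsLocalization.map_eq_zero_iff PS.primeCompl Sp _).mp h3
    have : v * w ∈ qS := by rw [show v * w = 0 from hvw]; exact zero_mem _
    rcases Ideal.IsPrime.mem_or_mem inferInstance this with h | h
    · refine hv ?_
      change algebraMap A Λ (π v) = 0 at h
      change algebraMap A Λ (π v) ∈ IsLocalRing.maximalIdeal Λ
      rw [h]
      exact zero_mem _
    · exact hw h
  haveI hSpsm : Algebra.FormallySmooth R Sp := by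
    let f₀ : SD →ₐ[R] Sp := IsLocalization.liftAlgHom (M := Submonoid.powers (s Δ))
      (f := IsScalarTower.toAlgHom R S Sp) (by
        rintro ⟨_, k, rfl⟩
        rw [map_pow]
        exact (IsLocalization.map_units Sp (⟨s Δ, hΔP⟩ : PS.primeCompl)).pow k)
    letI : Algebra SD Sp := f₀.toRingHom.toAlgebra
    haveI : IsScalarTower R SD Sp := IsScalarTower.of_algebraMap_eq fun x => (f₀.commutes x).symm
    haveI : IsScalarTower S SD Sp := IsScalarTower.of_algebraMap_eq fun x => by
      change _ = f₀ (algebraMap S SD x)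
      simp only [f₀, IsLocalization.liftAlgHom_apply, IsLocalization.lift_eq]
      rfl
    have hle : Submonoid.powers (s Δ) ≤ PS.primeCompl := Submonoid.powers_le.mpr hΔP
    haveI : IsLocalization (PS.primeCompl.map (algebraMap S SD)) Sp :=
      IsLocalization.isLocalization_of_submonoid_le SD Sp (Submonoid.powers (s Δ)) PS.primeCompl hle
    haveI : Algebra.FormallyEtale SD Sp :=
      Algebra.FormallyEtale.of_isLocalization (PS.primeCompl.map (algebraMap S SD))
    exact Algebra.FormallySmooth.comp R SD Sp
  let AP := Localization.AtPrime P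
  let fwd : Sp →ₐ[R] AP :=
    IsLocalization.liftAlgHom (M := PS.primeCompl) (f := (IsScalarTower.toAlgHom R A AP).comp π)
      (fun y => IsLocalization.map_units AP (⟨π y, y.2⟩ : P.primeCompl))
  let b0 : A →ₐ[R] Sp := AlgHom.liftOfSurjective hom hhom ((IsScalarTower.toAlgHom R S Sp).comp s) (fun v hv => by
    refine RingHom.mem_ker.mpr (RingHom.mem_ker.mp
      ((Ideal.span_le (I := RingHom.ker ((IsScalarTower.toAlgHom R S Sp).comp s))).mpr ?_
        ((SetLike.ext_iff.mp hf v).mpr hv)))
    rintro _ ⟨l, rfl⟩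
    exact hclosed l)
  have hb0 : ∀ p, b0 (hom p) = algebraMap S Sp (s p) := fun p => AlgHom.liftOfSurjective_apply ..
  let bwd : AP →ₐ[R] Sp := IsLocalization.liftAlgHom (M := P.primeCompl) (f := b0) (fun y => by
    obtain ⟨y', hy'⟩ := hhom (y : A)
    rw [← hy', hb0]
    exact IsLocalization.map_units Sp (⟨s y', fun h => y.2 (by
      change π (s y') ∈ P at h
      rwa [hπs, hy'] at h)⟩ : PS.primeCompl))
  have hfwd : ∀ x, fwd (algebraMap S Sp x) = algebraMap A AP (π x) := fun x => by
    simp only [fwd, IsLocalization.liftAlgHom_apply, IsLocalization.lift_eq]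
    rfl
  have hbwd : ∀ x, bwd (algebraMap A AP x) = b0 x := fun x => by
    simp only [bwd, IsLocalization.liftAlgHom_apply, IsLocalization.lift_eq]
    rfl
  have e1 : fwd.comp bwd = AlgHom.id R AP := by
    refine IsLocalization.algHom_ext P.primeCompl (AlgHom.ext fun a => ?_)
    obtain ⟨p, rfl⟩ := hhom a
    change fwd (bwd (algebraMap A AP (hom p))) = algebraMap A AP (hom p)
    rw [hbwd, hb0, hfwd, hπs]
  have e2 : bwd.comp fwd = AlgHom.id R Sp := by
    refine IsLocalization.algHom_ext PS.primeCompl (AlgHom.ext fun a => ?_)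
    obtain ⟨p, rfl⟩ := hs a
    change bwd (fwd (algebraMap S Sp (s p))) = algebraMap S Sp (s p)
    rw [hfwd, hbwd, hπs, hb0]
  exact Algebra.FormallySmooth.of_equiv (AlgEquiv.ofAlgHom fwd bwd e1 e2)

end Groth.Agent.DvrSmooth
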